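import Groth.Agent.PurityFlat.Algebra
import Groth.Agent.FlatLocal.StalkCrit
import Mathlib.RingTheory.Etale.QuasiFinite
import Mathlib.RingTheory.Ideal.GoingDown
import Mathlib.RingTheory.Unramified.LocalStructure

set_option autoImplicit false
set_option linter.style.haveILetI false
universe u v w w'

namespace Groth.Agent.PurityFlat

open TensorProduct

theorem height_one_of_lt_of_lt {A : Type u} [CommRing A] [IsNoetherianRing A] [IsLocalRing A]
    (P p' : Ideal A) [P.IsPrime] [p'.IsPrime] (hP : P ∈ minimalPrimes A) (h1 : P < p')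
    (h2 : p' < IsLocalRing.maximalIdeal A) :
    ∃ p : Ideal A, p.IsPrime ∧ P ≤ p ∧ p.height = 1 := by
  classical
  let m := IsLocalRing.maximalIdeal A
  let F : Set (Ideal A) := (⋃ q ∈ minimalPrimes A, (P ⊔ q).minimalPrimes) \ {m}
  have hF : F.Finite := Set.Finite.sdiff ((minimalPrimes.finite_of_isNoetherianRing A).biUnion fun q _ =>
    Ideal.finite_minimalPrimes_of_isNoetherianRing A _)
  have hFp : ∀ r ∈ F, r.IsPrime := by
    intro r hr
    obtain ⟨q, -, hq⟩ := Set.mem_iUnion₂.mp hr.1
    exact hq.1.1
  have hm : ¬ (m : Set A) ⊆ ⋃ r ∈ insert P hF.toFinset, (r : Set A) := by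
    intro hsub
    obtain ⟨r, hr, hmr⟩ := (Ideal.subset_union_prime (f := fun r : Ideal A => r) P P (fun r hr hne _ => by
      rcases Finset.mem_insert.mp hr with rfl | hr
      · exact absurd rfl hne
      · exact hFp r (hF.mem_toFinset.mp hr))).mp (show (m : Set A) ⊆ ⋃ r ∈ (↑(insert P hF.toFinset) : Set (Ideal A)), (r : Set A) by simpa only [Finset.mem_coe] using hsub)
    rcases Finset.mem_insert.mp hr with rfl | hr
    · exact lt_irrefl _ ((h1.trans h2).trans_le hmr)
    · rw [Set.Finite.mem_toFinset] at hr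
      exact hr.2 (le_antisymm (IsLocalRing.le_maximalIdeal (hFp r hr).ne_top) hmr)
  obtain ⟨b, hbm, hb⟩ := Set.not_subset.mp hm
  simp only [Set.mem_iUnion, Finset.mem_coe, not_exists] at hb
  have hbP : b ∉ P := fun h => hb P (Finset.mem_insert_self _ _) h
  obtain ⟨p, hp, -⟩ := Ideal.exists_minimalPrimes_le (I := P ⊔ Ideal.span {b}) (J := m)
    (sup_le (h1.le.trans h2.le) ((Ideal.span_singleton_le_iff_mem _).mpr hbm))
  haveI : p.IsPrime := hp.1.1
  have hPp : P ≤ p := le_sup_left.trans hp.1.2
  have hbp : b ∈ p := hp.1.2 (Ideal.mem_sup_right (Ideal.mem_span_singleton_self b))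
  have hne : P < p := lt_of_le_of_ne hPp fun h => hbP (h ▸ hbp)
  -- Krull in the domain `A ⧸ P`
  have key : ∀ r : Ideal A, r.IsPrime → P < r → r ≤ p → r = p := by
    intro r hr hPr hrp
    by_contra hne'
    let π := Ideal.Quotient.mk P
    have hπ : Function.Surjective π := Ideal.Quotient.mk_surjective
    have hker : RingHom.ker π = P := Ideal.mk_ker
    have hmin : p.map π ∈ (Ideal.span {π b}).minimalPrimes := by
      refine ⟨⟨Ideal.map_isPrime_of_surjective hπ (hker.le.trans hPp), (Ideal.span_singleton_le_iff_mem _).mpr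
        (Ideal.mem_map_of_mem π hbp)⟩, ?_⟩
      rintro Q ⟨hQ, hbQ⟩ hQp
      haveI := hQ
      have h3 : P ⊔ Ideal.span {b} ≤ Q.comap π := sup_le (hker.symm.le.trans (Ideal.comap_mono bot_le))
        ((Ideal.span_singleton_le_iff_mem _).mpr (hbQ (Ideal.mem_span_singleton_self _)))
      have h4 : Q.comap π ≤ p := by
        refine (Ideal.comap_mono hQp).trans ?_
        rw [Ideal.comap_map_of_surjective π hπ, ← RingHom.ker_eq_comap_bot, hker]
        exact sup_le le_rfl hPp
      have h5 := hp.2 ⟨inferInstance, h3⟩ h4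
      exact (Ideal.map_mono h5).trans Ideal.map_comap_le
    have hh := Ideal.height_le_one_of_isPrincipal_of_mem_minimalPrimes _ _ hmin
    haveI : (p.map π).IsPrime := hmin.1.1
    haveI : (r.map π).IsPrime := Ideal.map_isPrime_of_surjective hπ (hker.le.trans hPr.le)
    haveI : (⊥ : Ideal (A ⧸ P)).IsPrime := Ideal.isPrime_bot
    have e1 : (⊥ : Ideal (A ⧸ P)) < r.map π := bot_lt_iff_ne_bot.mpr fun h => hPr.not_ge
      (le_of_le_of_eq (Ideal.map_eq_bot_iff_le_ker π |>.mp h) hker)
    have e2 : r.map π < p.map π := by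
      refine lt_of_le_of_ne (Ideal.map_mono hrp) fun h => hne' (le_antisymm hrp ?_)
      have := congrArg (Ideal.comap π) h
      rw [Ideal.comap_map_of_surjective π hπ, Ideal.comap_map_of_surjective π hπ, ← RingHom.ker_eq_comap_bot, hker,
        sup_eq_left.mpr hPr.le, sup_eq_left.mpr hPp] at this
      exact this.ge
    have a1 := Ideal.height_strict_mono_of_isPrime e1
    have a2 := Ideal.height_strict_mono_of_isPrime e2
    have a3 : (1 : ℕ∞) ≤ (r.map π).height := Order.one_le_iff_pos.mpr (bot_le.trans_lt a1)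
    exact absurd (a3.trans_lt (a2.trans_le hh)) (lt_irrefl _)
  have hpm : p ≠ m := by
    intro h
    exact h2.ne ((key p' inferInstance h1 (h2.le.trans h.ge)).trans h)
  refine ⟨p, inferInstance, hPp, le_antisymm ?_ ?_⟩
  · by_contra hgt
    rw [not_le] at hgt
    obtain ⟨q', hq', hq'p, hq'h⟩ : ∃ q' : Ideal A, q'.IsPrime ∧ q' < p ∧ (1:ℕ∞) ≤ q'.height := by
      by_contra hno
      push Not at hno
      have : p.height ≤ 1 := (Ideal.height_le_iff (n := 1)).mpr fun q hq hqp => by exact_mod_cast hno q hq hqp
      exact absurd this (not_le.mpr hgt)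
    haveI := hq'
    obtain ⟨q, hq, hqq'⟩ := Ideal.exists_minimalPrimes_le (I := (⊥ : Ideal A)) (J := q') bot_le
    have hqne : q ≠ q' := by
      rintro rfl
      rw [Ideal.height_eq_zero_iff.mpr hq] at hq'h
      exact absurd hq'h (by simp)
    have hqP : q ≠ P := fun h => hqne (le_antisymm hqq' (by
      by_contra hnot
      exact hq'p.ne (key q' hq' (h ▸ lt_of_le_of_ne hqq' hqne) hq'p.le)))
    obtain ⟨r, hr, hrp⟩ := Ideal.exists_minimalPrimes_le (I := P ⊔ q) (J := p) (sup_le hPp (hqq'.trans hq'p.le))
    have hrF : r ∈ F := ⟨Set.mem_iUnion₂.mpr ⟨q, hq, hr⟩, fun h => hpm (le_antisymm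
      (IsLocalRing.le_maximalIdeal Ideal.IsPrime.ne_top') (h.symm.le.trans hrp))⟩
    have hbr : b ∉ r := fun h => hb r (Finset.mem_insert_of_mem (hF.mem_toFinset.mpr hrF)) h
    have hPr : P < r := lt_of_le_of_ne (le_sup_left.trans hr.1.2) fun h => hqP
      (le_antisymm (le_sup_right.trans (hr.1.2.trans h.ge)) (hP.2 ⟨hq.1.1, bot_le⟩ (le_sup_right.trans (hr.1.2.trans h.ge))))
    exact hbr ((key r hr.1.1 hPr hrp).symm ▸ hbp)
  · exact Order.one_le_iff_pos.mpr (bot_le.trans_lt (Ideal.height_strict_mono_of_isPrime hne))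

theorem exists_prime_height_one (A : Type u) [CommRing A] [IsNoetherianRing A] [IsLocalRing A]
    (h : (1 : WithBot ℕ∞) ≤ ringKrullDim A) (f : A) (hf : f ∈ IsLocalRing.maximalIdeal A) :
    ∃ p : Ideal A, p.IsPrime ∧ f ∈ p ∧ p.height = 1 := by
  let m := IsLocalRing.maximalIdeal A
  have hm1 : (1 : ℕ∞) ≤ m.height := by
    rw [← IsLocalRing.maximalIdeal_height_eq_ringKrullDim] at h; exact_mod_cast h
  rcases le_or_gt m.height 1 with hm | hm
  · exact ⟨m, inferInstance, hf, le_antisymm hm hm1⟩
  obtain ⟨p', hp', hp'm, hp'h⟩ : ∃ q' : Ideal A, q'.IsPrime ∧ q' < m ∧ (1:ℕ∞) ≤ q'.height := by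
    by_contra hno
    push Not at hno
    have : m.height ≤ 1 := (Ideal.height_le_iff (n := 1)).mpr fun q hq hqp => by exact_mod_cast hno q hq hqp
    exact absurd this (not_le.mpr hm)
  haveI := hp'
  obtain ⟨q0, hq0, hq0le⟩ := Ideal.exists_minimalPrimes_le (I := (⊥ : Ideal A)) (J := p') bot_le
  haveI : q0.IsPrime := hq0.1.1
  have hq0lt : q0 < p' := lt_of_le_of_ne hq0le (by
    rintro rfl
    rw [Ideal.height_eq_zero_iff.mpr hq0] at hp'h
    exact absurd hp'h (by simp))
  by_cases hfq : f ∈ q0
  · obtain ⟨p, h1, h2, h3⟩ := height_one_of_lt_of_lt q0 p' hq0 hq0lt hp'm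
    exact ⟨p, h1, h2 hfq, h3⟩
  obtain ⟨p, hp, -⟩ := Ideal.exists_minimalPrimes_le (I := q0 ⊔ Ideal.span {f}) (J := m)
    (sup_le (hq0lt.le.trans hp'm.le) ((Ideal.span_singleton_le_iff_mem _).mpr hf))
  haveI : p.IsPrime := hp.1.1
  obtain ⟨r, hr, hrp⟩ := Ideal.exists_minimalPrimes_le (I := Ideal.span {f}) (J := p) (le_sup_right.trans hp.1.2)
  haveI : r.IsPrime := hr.1.1
  have hfr : f ∈ r := hr.1.2 (Ideal.mem_span_singleton_self f)
  have hr1 := Ideal.height_le_one_of_isPrincipal_of_mem_minimalPrimes _ r hr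
  by_cases hr0 : r.height = 1
  · exact ⟨r, inferInstance, hfr, hr0⟩
  have hrmin : r ∈ minimalPrimes A := by
    rw [← Ideal.height_eq_zero_iff]
    exact Order.lt_one_iff.mp (lt_of_le_of_ne hr1 hr0)
  by_cases hpm : p = m
  · -- Krull: then no prime strictly between `q0` and `m`
    exfalso
    let π := Ideal.Quotient.mk q0
    have hπ : Function.Surjective π := Ideal.Quotient.mk_surjective
    have hmin : m.map π ∈ (Ideal.span {π f}).minimalPrimes := by
      refine ⟨⟨Ideal.map_isPrime_of_surjective hπ (Ideal.mk_ker.le.trans (hq0lt.le.trans hp'm.le)),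
        (Ideal.span_singleton_le_iff_mem _).mpr (Ideal.mem_map_of_mem π hf)⟩, ?_⟩
      rintro Q ⟨hQ, hfQ⟩ -
      haveI := hQ
      have h5 : m ≤ Q.comap π := hpm ▸ hp.2 ⟨inferInstance, sup_le (Ideal.mk_ker.symm.le.trans (Ideal.comap_mono bot_le))
        ((Ideal.span_singleton_le_iff_mem _).mpr (hfQ (Ideal.mem_span_singleton_self _)))⟩
        ((IsLocalRing.le_maximalIdeal Ideal.IsPrime.ne_top').trans hpm.ge)
      exact (Ideal.map_mono h5).trans Ideal.map_comap_le
    haveI : (m.map π).IsPrime := hmin.1.1
    haveI : (p'.map π).IsPrime := Ideal.map_isPrime_of_surjective hπ (Ideal.mk_ker.le.trans hq0le)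
    haveI : (⊥ : Ideal (A ⧸ q0)).IsPrime := Ideal.isPrime_bot
    have e1 : (⊥ : Ideal (A ⧸ q0)) < p'.map π := bot_lt_iff_ne_bot.mpr fun h => hq0lt.not_ge
      (le_of_le_of_eq (Ideal.map_eq_bot_iff_le_ker π |>.mp h) Ideal.mk_ker)
    have e2 : p'.map π < m.map π := by
      refine lt_of_le_of_ne (Ideal.map_mono hp'm.le) fun h => hp'm.not_ge ?_
      have := congrArg (Ideal.comap π) h
      rw [Ideal.comap_map_of_surjective π hπ, Ideal.comap_map_of_surjective π hπ, ← RingHom.ker_eq_comap_bot, Ideal.mk_ker,
        sup_eq_left.mpr hq0le, sup_eq_left.mpr (hq0le.trans hp'm.le)] at this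
      exact this.ge
    have a1 := Ideal.height_strict_mono_of_isPrime e1
    have a2 := Ideal.height_strict_mono_of_isPrime e2
    have a3 : (1 : ℕ∞) ≤ (p'.map π).height := Order.one_le_iff_pos.mpr (bot_le.trans_lt a1)
    exact absurd (a3.trans_lt (a2.trans_le (Ideal.height_le_one_of_isPrincipal_of_mem_minimalPrimes _ _ hmin))) (lt_irrefl _)
  · have hrlt : r < p := lt_of_le_of_ne hrp fun h => by
      have : q0 ≤ r := h ▸ le_sup_left.trans hp.1.2
      exact hfq (le_antisymm this (hrmin.2 ⟨hq0.1.1, bot_le⟩ this) ▸ hfr)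
    obtain ⟨s, h1, h2, h3⟩ := height_one_of_lt_of_lt r p hrmin hrlt
      (lt_of_le_of_ne (IsLocalRing.le_maximalIdeal Ideal.IsPrime.ne_top') hpm)
    exact ⟨s, h1, h2 hfr, h3⟩

/-- Purity at the closed point from the primes of height one. -/
theorem geomRed_maximal_of_height_one {A : Type u} {B : Type v} [CommRing A] [CommRing B] [Algebra A B]
    [Module.Finite A B] [IsNoetherianRing A] [IsLocalRing A] [Module.Free A B]
    (hdim : (1 : WithBot ℕ∞) ≤ ringKrullDim A)
    (h : ∀ P : Ideal A, P.IsPrime → P.height = 1 → GeomRed A B P) :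
    GeomRed A B (IsLocalRing.maximalIdeal A) := by
  classical
  let b := Module.Free.chooseBasis A B
  let d := (Algebra.traceMatrix A b).det
  have key : ∀ (K : Type u) [Field K] [IsAlgClosed K] [Algebra A K],
      IsReduced (K ⊗[A] B) ↔ d ∉ RingHom.ker (algebraMap A K) := by
    intro K _ _ _
    rw [← FiniteEt.det_traceMatrix_ne_zero_iff K (K ⊗[A] B) (b.baseChange K), FiniteEt.traceMatrix_baseChange,
      ← RingHom.mapMatrix_apply, ← RingHom.map_det]
    rfl
  intro K _ _ _ hK
  rw [key K, hK]
  intro hd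
  obtain ⟨P, hPp, hdP, hP1⟩ := exists_prime_height_one A hdim d hd
  haveI := hPp
  let L := AlgebraicClosure P.ResidueField
  have hker : RingHom.ker (algebraMap A L) = P := by
    rw [IsScalarTower.algebraMap_eq A P.ResidueField L,
      RingHom.ker_comp_of_injective _ (algebraMap P.ResidueField L).injective, Ideal.ker_algebraMap_residueField]
  have := (key L).mp (h P hPp hP1 L hker)
  rw [hker] at this
  exact this hdP

/-- An algebra generated by the image of `B` is unramified if `B` is unramified at all primes hit. -/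
theorem formallyUnramified_of_generated {A : Type u} {B : Type v} {K : Type w} {E : Type w'}
    [CommRing A] [CommRing B] [CommRing K] [CommRing E] [Algebra A B] [Algebra A K] [Algebra A E]
    [Algebra K E] [IsScalarTower A K E] [Algebra.EssFiniteType A B] (ι : B →ₐ[A] E)
    (hgen : Algebra.adjoin K (Set.range ι) = ⊤)
    (h : ∀ Q : Ideal E, Q.IsMaximal → ∀ (q : Ideal B) [q.IsPrime], q = Q.comap ι → Algebra.IsUnramifiedAt A q) :
    Algebra.FormallyUnramified K E := by
  letI : Algebra B E := ι.toAlgebra
  haveI : IsScalarTower A B E := IsScalarTower.of_algebraMap_eq fun a => (ι.commutes a).symm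
  haveI : SMulCommClass K B E := ⟨fun k b e => by rw [Algebra.smul_def, Algebra.smul_def, Algebra.smul_def, Algebra.smul_def, mul_left_comm]⟩
  haveI : Module.Finite B (Ω[B⁄A]) := inferInstance
  constructor
  by_contra hne
  let J := Module.annihilator E (Ω[E⁄K])
  have hJ : J ≠ ⊤ := fun h => hne (subsingleton_of_forall_eq 0 fun z => by
    simpa using Module.mem_annihilator.mp (h ▸ Submodule.mem_top : (1 : E) ∈ J) z)
  obtain ⟨Q, hQ, hJQ⟩ := Ideal.exists_le_maximal J hJ
  have hu := h Q hQ (Q.comap ι) rfl
  have hns : (⟨Q.comap ι, inferInstance⟩ : PrimeSpectrum B) ∉ Module.support B (Ω[B⁄A]) := by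
    rw [← Set.mem_compl_iff, ← Algebra.unramifiedLocus_eq_compl_support]; exact hu
  rw [Module.mem_support_iff_of_finite] at hns
  obtain ⟨s, hs, hsq⟩ := SetLike.not_le_iff_exists.mp hns
  refine hsq (Ideal.mem_comap.mpr (hJQ (Module.mem_annihilator.mpr fun z => ?_)))
  have hB : ∀ b : B, ι s • KaehlerDifferential.D K E (ι b) = 0 := fun b => by
    have := KaehlerDifferential.map_D A K B E b
    rw [show algebraMap B E b = ι b from rfl] at this
    rw [← this]
    show algebraMap B E s • _ = 0
    rw [algebraMap_smul, ← LinearMap.map_smul, Module.mem_annihilator.mp hs _, map_zero]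
  have hE : ∀ x : E, ι s • KaehlerDifferential.D K E x = 0 := fun x => by
    have hx : x ∈ Algebra.adjoin K (Set.range ι) := hgen ▸ Algebra.mem_top
    induction hx using Algebra.adjoin_induction with
    | mem x hx => obtain ⟨b, rfl⟩ := hx; exact hB b
    | algebraMap k => simp
    | add x y _ _ hx hy => simp [smul_add, hx, hy]
    | mul x y _ _ hx hy =>
      rw [Derivation.leibniz, smul_add, smul_comm (ι s) x, smul_comm (ι s) y, hx, hy, smul_zero, smul_zero, add_zero]
  have hz : z ∈ Submodule.span E (Set.range (KaehlerDifferential.D K E)) := by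
    rw [KaehlerDifferential.span_range_derivation]; trivial
  induction hz using Submodule.span_induction with
  | mem y hy => obtain ⟨x, rfl⟩ := hy; exact hE x
  | zero => simp
  | add a b _ _ ha hb => simp [smul_add, ha, hb]
  | smul c a _ ha => rw [smul_comm, ha, smul_zero]

set_option maxHeartbeats 800000 in
/-- Purity of the branch locus for flat, quasi-finite algebras of finite type. -/
theorem isUnramifiedAt_of_height_one {A B : Type u} [CommRing A] [CommRing B] [Algebra A B]
    [IsNoetherianRing A] [Algebra.FiniteType A B] [Module.Flat A B] (q : Ideal B) [q.IsPrime]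
    [Algebra.QuasiFiniteAt A q] (hq : (1 : ℕ∞) ≤ q.height)
    (h : ∀ (q' : Ideal B) [q'.IsPrime], q' ≤ q → q'.height = 1 → Algebra.IsUnramifiedAt A q') :
    Algebra.IsUnramifiedAt A q := by
  classical
  haveI : IsNoetherianRing B := Algebra.FiniteType.isNoetherianRing A B
  let p := q.under A
  obtain ⟨R', _, _, _, P, _, _, e, he, P', _, _, hP'q, heP', -, hfin, huniq⟩ :=
    Algebra.exists_etale_isIdempotentElem_forall_liesOver_eq p q
  haveI : IsNoetherianRing R' := Algebra.FiniteType.isNoetherianRing A R'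
  let C := Localization.Away e
  haveI : Module.Finite R' C := hfin
  haveI : Module.Flat (R' ⊗[A] B) C := IsLocalization.flat C (Submonoid.powers e)
  haveI : Module.Flat R' (R' ⊗[A] B) := inferInstance
  haveI : Module.Flat R' C := Module.Flat.trans R' (R' ⊗[A] B) C
  let A' := Localization.AtPrime P
  let D := A' ⊗[R'] C
  haveI : Module.Free A' D := Module.free_of_flat_of_isLocalRing
  -- the map from B
  haveI : IsScalarTower A A' D := inferInstance
  haveI : IsNoetherianRing D := Algebra.FiniteType.isNoetherianRing A' D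
  let ιC : B →ₐ[A] C := ((IsScalarTower.toAlgHom A (R' ⊗[A] B) C)).comp Algebra.TensorProduct.includeRight
  haveI : IsScalarTower A R' D := IsScalarTower.of_algebraMap_eq (R := A) (S := R') (A := D) fun a => by
    rw [IsScalarTower.algebraMap_apply A A' D, IsScalarTower.algebraMap_apply A R' A']
    exact (IsScalarTower.algebraMap_apply R' A' D _).symm
  let ι : B →ₐ[A] D := ((Algebra.TensorProduct.includeRight : C →ₐ[R'] D).restrictScalars A).comp ιC
  -- flatness of B → D
  letI : Algebra B D := ι.toRingHom.toAlgebra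
  haveI : IsScalarTower A B D := IsScalarTower.of_algebraMap_eq fun a => (ι.commutes a).symm
  have hflat : ι.toRingHom.Flat := by
    show ((Algebra.TensorProduct.includeRight : C →ₐ[R'] D).toRingHom.comp ιC.toRingHom).Flat
    refine RingHom.Flat.comp ?_ ?_
    · show ((algebraMap (R' ⊗[A] B) C).comp (Algebra.TensorProduct.includeRight : B →ₐ[A] R' ⊗[A] B).toRingHom).Flat
      refine RingHom.Flat.comp ?_ (RingHom.flat_algebraMap_iff.mpr inferInstance)
      have := RingHom.Flat.comp (RingHom.flat_algebraMap_iff.mpr (inferInstance : Module.Flat B (B ⊗[A] R')))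
        (RingHom.Flat.of_bijective (f := (Algebra.TensorProduct.comm A B R').toRingEquiv.toRingHom)
          (Algebra.TensorProduct.comm A B R').bijective)
      convert this using 1
      ext x
      simp
    · have := RingHom.Flat.comp (RingHom.flat_algebraMap_iff.mpr (inferInstance : Module.Flat C (C ⊗[R'] A')))
        (RingHom.Flat.of_bijective (f := (Algebra.TensorProduct.comm R' C A').toRingEquiv.toRingHom)
          (Algebra.TensorProduct.comm R' C A').bijective)
      convert this using 1
      ext x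
      simp
  haveI : Module.Flat B D := hflat
  -- D is local, with closed point over q
  have hD : ∀ M : Ideal D, M.IsMaximal → M.comap ι = q := by
    intro M hM
    haveI : (M.under A').IsMaximal := Ideal.isMaximal_comap_of_isIntegral_of_isMaximal M
    have hMA : M.under A' = IsLocalRing.maximalIdeal A' := IsLocalRing.eq_maximalIdeal inferInstance
    let φ : R' ⊗[A] B →ₐ[R'] D :=
      (Algebra.TensorProduct.includeRight : C →ₐ[R'] D).comp (IsScalarTower.toAlgHom R' (R' ⊗[A] B) C)
    haveI : (M.comap φ).IsPrime := inferInstance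
    have e1 : (M.comap φ).LiesOver P := ⟨by
      show P = Ideal.comap (algebraMap R' (R' ⊗[A] B)) (Ideal.comap φ.toRingHom M)
      rw [Ideal.comap_comap, show φ.toRingHom.comp (algebraMap R' (R' ⊗[A] B)) = algebraMap R' D from φ.comp_algebraMap, IsScalarTower.algebraMap_eq R' A' D, ← Ideal.comap_comap,
        ← Ideal.under_def A' M, hMA]
      exact (IsLocalization.AtPrime.under_maximalIdeal A' P).symm⟩
    have e2 : e ∉ M.comap φ := fun hm => hM.ne_top (Ideal.eq_top_of_isUnit_mem _ (Ideal.mem_comap.mp hm)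
      ((IsLocalization.Away.algebraMap_isUnit e).map (Algebra.TensorProduct.includeRight : C →ₐ[R'] D)))
    rw [← hP'q, ← huniq _ inferInstance e1 e2]
    rfl
  have hle : ∀ Q : Ideal D, Q.IsPrime → Q.comap ι ≤ q := fun Q hQ => by
    obtain ⟨M, hM, hQM⟩ := Ideal.exists_le_maximal Q hQ.ne_top
    exact (Ideal.comap_mono hQM).trans (hD M hM).le
  haveI : Algebra.QuasiFinite A R' := inferInstance
  -- contraction A' → A is strictly monotone
  have hstrict : ∀ Q₁ Q₂ : Ideal A', Q₁.IsPrime → Q₂.IsPrime → Q₁ < Q₂ → Q₁.under A < Q₂.under A := by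
    intro Q₁ Q₂ h1 h2 h12
    refine lt_of_le_of_ne (Ideal.comap_mono h12.le) fun heq => h12.ne ?_
    haveI := h1; haveI := h2
    have := Algebra.QuasiFinite.eq_of_le_of_under_eq (R := A) (Q₁.under R') (Q₂.under R') (Ideal.comap_mono h12.le)
      (by rw [Ideal.under_under, Ideal.under_under]; exact heq)
    rw [← IsLocalization.map_under P.primeCompl A' Q₁, this, IsLocalization.map_under P.primeCompl A' Q₂]
  have hp1 : (1 : ℕ∞) ≤ p.height := by
    obtain ⟨q₀, hq₀, hq₀q⟩ := Ideal.exists_minimalPrimes_le (I := (⊥ : Ideal B)) (J := q) bot_le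
    haveI : q₀.IsPrime := hq₀.1.1
    have hlt : q₀ < q := lt_of_le_of_ne hq₀q fun e => by
      rw [← e, Ideal.height_eq_zero_iff.mpr hq₀] at hq
      exact absurd hq (by simp)
    refine Order.one_le_iff_pos.mpr (bot_le.trans_lt (Ideal.height_strict_mono_of_isPrime (lt_of_le_of_ne
      (Ideal.comap_mono hlt.le : q₀.under A ≤ q.under A) fun e => hlt.ne ?_)))
    exact Algebra.QuasiFiniteAt.eq_of_le_of_under_eq (R := A) hlt.le e
  have hA'dim : (1 : WithBot ℕ∞) ≤ ringKrullDim A' := by
    rw [← IsLocalRing.maximalIdeal_height_eq_ringKrullDim]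
    refine WithBot.coe_le_coe.mpr (Order.one_le_iff_pos.mpr ?_)
    obtain ⟨p₀, hp₀, hp₀p⟩ := Ideal.exists_minimalPrimes_le (I := (⊥ : Ideal A)) (J := p) bot_le
    haveI : p₀.IsPrime := hp₀.1.1
    have hlt : p₀ < p := lt_of_le_of_ne hp₀p fun e => by
      rw [← e, Ideal.height_eq_zero_iff.mpr hp₀] at hp1
      exact absurd hp1 (by simp)
    haveI : Module.Flat A A' := Module.Flat.trans A R' A'
    haveI : (IsLocalRing.maximalIdeal A').LiesOver p := ⟨by
      rw [← Ideal.under_under (B := R'), IsLocalization.AtPrime.under_maximalIdeal A' P, ← P.over_def p]⟩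
    obtain ⟨Q, hQ, hQp, -⟩ := Ideal.exists_ideal_lt_liesOver_of_lt (IsLocalRing.maximalIdeal A') hlt
    haveI := hQp
    exact bot_le.trans_lt (Ideal.height_strict_mono_of_isPrime hQ)
  have hred : ∀ 𝔭 : Ideal A', 𝔭.IsPrime → 𝔭.height = 1 → GeomRed A' D 𝔭 := by
    intro 𝔭 h𝔭 h1 K _ _ _ hK
    haveI := h𝔭
    let E := K ⊗[A'] D
    letI : Algebra A K := ((algebraMap A' K).comp (algebraMap A A')).toAlgebra
    haveI : IsScalarTower A A' K := IsScalarTower.of_algebraMap_eq' rfl
    let j : D →ₐ[A'] E := Algebra.TensorProduct.includeRight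
    have hgen : Algebra.adjoin K (Set.range ((j.restrictScalars A).comp ι)) = ⊤ := by
      rw [eq_top_iff]
      rintro x -
      induction x using TensorProduct.induction_on with
      | zero => exact zero_mem _
      | add x y hx hy => exact add_mem hx hy
      | tmul k d =>
        induction d using TensorProduct.induction_on with
        | zero => rw [tmul_zero]; exact zero_mem _
        | add x y hx hy => rw [tmul_add]; exact add_mem hx hy
        | tmul a c =>
          obtain ⟨t, rfl⟩ := IsLocalization.Away.algebraMap_surjective_of_isIdempotentElem (S := C) e he c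
          induction t using TensorProduct.induction_on with
          | zero => simp
          | add x y hx hy => rw [map_add, tmul_add, tmul_add]; exact add_mem hx hy
          | tmul r b =>
            have : k ⊗ₜ[A'] (a ⊗ₜ[R'] algebraMap (R' ⊗[A] B) C (r ⊗ₜ b)) =
                (k * algebraMap A' K (a * algebraMap R' A' r)) • ((j.restrictScalars A).comp ι b : E) := by
              have hr : algebraMap (R' ⊗[A] B) C (r ⊗ₜ b) = r • ιC b := by
                show _ = r • algebraMap (R' ⊗[A] B) C (1 ⊗ₜ b)
                rw [Algebra.smul_def, IsScalarTower.algebraMap_apply R' (R' ⊗[A] B) C, ← map_mul,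
                  Algebra.TensorProduct.algebraMap_apply, Algebra.TensorProduct.tmul_mul_tmul]
                simp
              rw [hr]
              show _ = _ • ((1 : K) ⊗ₜ[A'] ((1 : A') ⊗ₜ[R'] ιC b))
              rw [smul_tmul', smul_eq_mul, mul_one, ← smul_tmul (R := R'), Algebra.smul_def, mul_comm _ a]
              rw [show (a * algebraMap R' A' r) ⊗ₜ[R'] ιC b = (a * algebraMap R' A' r) • ((1 : A') ⊗ₜ[R'] ιC b) by
                rw [smul_tmul', smul_eq_mul, mul_one]]
              rw [← smul_tmul, Algebra.smul_def, mul_comm k]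
            rw [this]
            exact Subalgebra.smul_mem _ (Algebra.subset_adjoin (Set.mem_range_self b)) _
    haveI : Algebra.FormallyUnramified K E := by
      refine formallyUnramified_of_generated ((j.restrictScalars A).comp ι) hgen fun Q hQ q' hq'p hq' => ?_
      haveI : (Q.comap j).IsPrime := inferInstance
      have hq'e : q' = (Q.comap j).comap ι := hq'
      have hQ𝔭 : (Q.comap j).under A' = 𝔭 := by
        show Ideal.comap (algebraMap A' D) (Ideal.comap j.toRingHom Q) = 𝔭
        rw [Ideal.comap_comap, show j.toRingHom.comp (algebraMap A' D) = algebraMap A' E from j.comp_algebraMap, IsScalarTower.algebraMap_eq A' K E, ← Ideal.comap_comap,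
          Ideal.eq_bot_of_prime (Q.comap (algebraMap K E)), ← RingHom.ker_eq_comap_bot, hK]
      refine h q' (hq'e ▸ hle _ inferInstance) (le_antisymm ?_ ?_)
      · -- going down along B → D
        have h2 : (Q.comap j).height ≤ 1 := by
          refine (Ideal.height_le_iff (n := 1)).mpr fun Q₀ hQ₀ hlt => ?_
          have hlt' : Q₀.under A' < 𝔭 := hQ𝔭 ▸ lt_of_le_of_ne (Ideal.comap_mono hlt.le) fun e =>
            hlt.ne (Algebra.QuasiFinite.eq_of_le_of_under_eq (R := A') Q₀ _ hlt.le e)
          have := Ideal.height_strict_mono_of_isPrime hlt'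
          rw [h1, Order.lt_one_iff] at this
          by_contra hne
          rw [not_lt] at hne
          obtain ⟨Q₁, hQ₁, hQ₁le⟩ := Ideal.exists_minimalPrimes_le (I := (⊥ : Ideal D)) (J := Q₀) bot_le
          haveI : Q₁.IsPrime := hQ₁.1.1
          have hQ₁lt : Q₁ < Q₀ := lt_of_le_of_ne hQ₁le (by
            rintro rfl
            rw [Ideal.height_eq_zero_iff.mpr hQ₁] at hne
            exact absurd hne (by simp))
          have := Ideal.height_strict_mono_of_isPrime (lt_of_le_of_ne (Ideal.comap_mono hQ₁le : Q₁.under A' ≤ Q₀.under A') fun e =>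
            hQ₁lt.ne (Algebra.QuasiFinite.eq_of_le_of_under_eq (R := A') Q₁ _ hQ₁le e))
          simp_all
        refine (Ideal.height_le_iff (n := 1)).mpr fun q₀ hq₀ hlt => ?_
        haveI : (Q.comap j).LiesOver q' := ⟨hq'e⟩
        obtain ⟨Q₀, hQ₀, hQ₀p, hQ₀o⟩ := Ideal.exists_ideal_lt_liesOver_of_lt (Q.comap j) hlt
        haveI := hQ₀p
        have hzero : Q₀.height = 0 := by
          have := (Ideal.height_strict_mono_of_isPrime hQ₀).trans_le h2
          exact Order.lt_one_iff.mp this
        by_contra hne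
        rw [not_lt] at hne
        obtain ⟨q₁, hq₁, hq₁le⟩ := Ideal.exists_minimalPrimes_le (I := (⊥ : Ideal B)) (J := q₀) bot_le
        haveI : q₁.IsPrime := hq₁.1.1
        have hq₁lt : q₁ < q₀ := lt_of_le_of_ne hq₁le (by
          rintro rfl
          rw [Ideal.height_eq_zero_iff.mpr hq₁] at hne
          exact absurd hne (by simp))
        obtain ⟨Q₁, hQ₁, hQ₁p, -⟩ := Ideal.exists_ideal_lt_liesOver_of_lt Q₀ hq₁lt
        haveI := hQ₁p
        have := Ideal.height_strict_mono_of_isPrime hQ₁
        simp [hzero] at this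
      · have hA1 : (1 : ℕ∞) ≤ (q'.under A).height := by
          obtain ⟨p₀, hp₀, hp₀le⟩ := Ideal.exists_minimalPrimes_le (I := (⊥ : Ideal A')) (J := 𝔭) bot_le
          haveI : p₀.IsPrime := hp₀.1.1
          have hp₀lt : p₀ < 𝔭 := lt_of_le_of_ne hp₀le (by
            rintro rfl
            rw [Ideal.height_eq_zero_iff.mpr hp₀] at h1
            exact absurd h1 (by simp))
          have : q'.under A = 𝔭.under A := by
            rw [← hQ𝔭, Ideal.under_under, hq'e]
            show Ideal.comap (algebraMap A B) (Ideal.comap ι.toRingHom (Q.comap j)) = _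
            rw [Ideal.comap_comap, show ι.toRingHom.comp (algebraMap A B) = algebraMap A D from ι.comp_algebraMap]
          rw [this]
          exact Order.one_le_iff_pos.mpr (bot_le.trans_lt (Ideal.height_strict_mono_of_isPrime (hstrict _ _ inferInstance h𝔭 hp₀lt)))
        obtain ⟨p₀, hp₀, hp₀le⟩ := Ideal.exists_minimalPrimes_le (I := (⊥ : Ideal A)) (J := q'.under A) bot_le
        haveI : p₀.IsPrime := hp₀.1.1
        have hp₀lt : p₀ < q'.under A := lt_of_le_of_ne hp₀le (fun e => by
          rw [← e, Ideal.height_eq_zero_iff.mpr hp₀] at hA1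
          exact absurd hA1 (by simp))
        haveI : q'.LiesOver (q'.under A) := Ideal.over_under _
        obtain ⟨q₀, hq₀, hq₀p, -⟩ := Ideal.exists_ideal_lt_liesOver_of_lt q' hp₀lt
        haveI := hq₀p
        exact Order.one_le_iff_pos.mpr (bot_le.trans_lt (Ideal.height_strict_mono_of_isPrime hq₀))
    exact Algebra.FormallyUnramified.isReduced_of_field K E
  have hfu : Algebra.FormallyUnramified A' D := formallyUnramified_of_geomRed fun m hm => by
    rw [IsLocalRing.eq_maximalIdeal hm]
    exact geomRed_maximal_of_height_one hA'dim hred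
  -- descend to B_q
  haveI : Algebra.FormallyUnramified A A' := Algebra.FormallyUnramified.comp A R' A'
  haveI : Algebra.FormallyUnramified A D := Algebra.FormallyUnramified.comp A A' D
  haveI : Nontrivial D := by
    let L := P'.ResidueField
    have hu : IsUnit (algebraMap (R' ⊗[A] B) L e) := IsUnit.mk0 _ fun h => heP' (Ideal.algebraMap_residueField_eq_zero.mp h)
    let g₁ : C →ₐ[R'] L := IsLocalization.liftAlgHom (M := Submonoid.powers e)
      (f := IsScalarTower.toAlgHom R' (R' ⊗[A] B) L) (by
        rintro ⟨_, n, rfl⟩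
        show IsUnit (algebraMap (R' ⊗[A] B) L (e ^ n))
        rw [map_pow]
        exact hu.pow n)
    let g₂ : A' →ₐ[R'] L := IsLocalization.liftAlgHom (M := P.primeCompl) (f := Algebra.ofId R' L) (fun y =>
      IsUnit.mk0 _ fun h => y.2 (by
        have h' : algebraMap (R' ⊗[A] B) L (algebraMap R' _ (y : R')) = 0 := by
          rw [← IsScalarTower.algebraMap_apply R' (R' ⊗[A] B) L]; exact h
        rw [Ideal.algebraMap_residueField_eq_zero] at h'
        exact (P'.over_def P).symm.le h'))
    exact (Algebra.TensorProduct.lift g₂ g₁ fun _ _ => Commute.all _ _).toRingHom.domain_nontrivial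
  obtain ⟨M, hM⟩ := Ideal.exists_maximal D
  haveI : M.LiesOver q := ⟨(hD M hM).symm⟩
  letI := Localization.AtPrime.algebraOfLiesOver q M
  haveI : Algebra.EssFiniteType A A' := Algebra.EssFiniteType.comp A R' A'
  haveI : Algebra.EssFiniteType A D := Algebra.EssFiniteType.comp A A' D
  let Ap := Localization.AtPrime p
  haveI : q.LiesOver p := Ideal.over_under _
  letI := Localization.AtPrime.algebraOfLiesOver p q
  haveI : M.LiesOver p := Ideal.LiesOver.trans M q p
  letI := Localization.AtPrime.algebraOfLiesOver p M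
  haveI : Algebra.FormallyUnramified A (Localization.AtPrime M) := Algebra.FormallyUnramified.comp A D _
  haveI : Algebra.FormallyUnramified Ap (Localization.AtPrime M) := Algebra.FormallyUnramified.of_restrictScalars A _ _
  haveI : Algebra.EssFiniteType A (Localization.AtPrime M) := Algebra.EssFiniteType.comp A D _
  haveI : Algebra.EssFiniteType Ap (Localization.AtPrime M) := Algebra.EssFiniteType.of_comp A Ap _
  haveI : Algebra.EssFiniteType A (Localization.AtPrime q) := Algebra.EssFiniteType.comp A B _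
  haveI : Algebra.EssFiniteType Ap (Localization.AtPrime q) := Algebra.EssFiniteType.of_comp A Ap _
  haveI : Module.Flat (Localization.AtPrime q) (Localization.AtPrime M) := inferInstance
  haveI := Groth.Agent.FlatLocal.formallyUnramified_of_flat_comp (A := Ap) (B := Localization.AtPrime q) (C := Localization.AtPrime M)
  exact Algebra.FormallyUnramified.comp A Ap (Localization.AtPrime q)

end Groth.Agent.PurityFlat
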