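import Groth.Agent.FiniteEt.Trace
import Mathlib.RingTheory.Ideal.KrullsHeightTheorem
import Mathlib.RingTheory.Ideal.Height
import Mathlib.RingTheory.Unramified.Locus
import Mathlib.RingTheory.LocalRing.Module

/-!
# Purity of the branch locus for finite flat algebras
-/

set_option autoImplicit false
universe u v

namespace Groth.Agent.PurityFlat

open TensorProduct

/-- All geometric fibres over the prime `P` are reduced. -/
def GeomRed (A : Type u) (B : Type v) [CommRing A] [CommRing B] [Algebra A B] (P : Ideal A) : Prop :=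
  ∀ (K : Type u) [Field K] [IsAlgClosed K] [Algebra A K],
    RingHom.ker (algebraMap A K) = P → IsReduced (K ⊗[A] B)

variable {A : Type u} {B : Type v} [CommRing A] [CommRing B] [Algebra A B] [Module.Finite A B]

theorem geomRed_of_away (a : A) [Algebra.FormallyUnramified A (Localization.Away (algebraMap A B a))]
    {P : Ideal A} (ha : a ∉ P) : GeomRed A B P := by
  intro K _ _ _ hK
  let ι : B →ₐ[A] K ⊗[A] B := Algebra.TensorProduct.includeRight
  have hu : IsUnit (algebraMap A K a) := IsUnit.mk0 _ fun h => ha (hK ▸ h)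
  have hu' : ∀ y : Submonoid.powers (algebraMap A B a), IsUnit (ι y) := by
    rintro ⟨_, n, rfl⟩
    show IsUnit (ι (algebraMap A B a ^ n))
    rw [map_pow, AlgHom.commutes, IsScalarTower.algebraMap_apply A K (K ⊗[A] B)]
    exact (hu.map _).pow n
  let l : Localization.Away (algebraMap A B a) →ₐ[A] K ⊗[A] B :=
    IsLocalization.liftAlgHom (M := Submonoid.powers (algebraMap A B a)) (f := ι) hu'
  let π : K ⊗[A] Localization.Away (algebraMap A B a) →ₐ[K] K ⊗[A] B :=
    Algebra.TensorProduct.lift (Algebra.ofId K _) l fun _ _ => Commute.all _ _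
  have hπ : Function.Surjective π := by
    intro z
    induction z with
    | zero => exact ⟨0, map_zero _⟩
    | tmul k b =>
      refine ⟨k ⊗ₜ algebraMap B _ b, ?_⟩
      rw [Algebra.TensorProduct.lift_tmul]
      simp [l, ι, Algebra.ofId_apply]
    | add p q hp hq =>
      obtain ⟨p', rfl⟩ := hp
      obtain ⟨q', rfl⟩ := hq
      exact ⟨p' + q', map_add _ _ _⟩
  haveI := Algebra.FormallyUnramified.of_surjective π hπ
  exact Algebra.FormallyUnramified.isReduced_of_field K (K ⊗[A] B)

theorem formallyUnramified_of_geomRed (h : ∀ m : Ideal A, m.IsMaximal → GeomRed A B m) :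
    Algebra.FormallyUnramified A B := by
  constructor
  by_contra hne
  have hfin : Module.Finite A (Ω[B⁄A]) := Module.Finite.trans B _
  let J := Module.annihilator A (Ω[B⁄A])
  have hJ : J ≠ ⊤ := fun h => hne (subsingleton_of_forall_eq 0 fun z => by
    simpa using Module.mem_annihilator.mp (h ▸ Submodule.mem_top : (1 : A) ∈ J) z)
  obtain ⟨m, hm, hJm⟩ := Ideal.exists_le_maximal J hJ
  letI := Ideal.Quotient.field m
  let K := AlgebraicClosure (A ⧸ m)
  haveI : IsReduced (K ⊗[A] B) := h m hm K (by
    rw [IsScalarTower.algebraMap_eq A (A ⧸ m) K, RingHom.ker_comp_of_injective _ (algebraMap (A ⧸ m) K).injective,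
      Ideal.Quotient.algebraMap_eq, Ideal.mk_ker])
  haveI := FiniteEt.formallyEtale_of_isReduced K (K ⊗[A] B)
  letI : Algebra B (K ⊗[A] B) := Algebra.TensorProduct.rightAlgebra
  have h1 : Subsingleton (K ⊗[A] Ω[B⁄A]) :=
    (KaehlerDifferential.tensorKaehlerEquivBase A K B (K ⊗[A] B)).subsingleton
  have h2 : Subsingleton (K ⊗[A ⧸ m] ((A ⧸ m) ⊗[A] Ω[B⁄A])) :=
    (TensorProduct.AlgebraTensorModule.cancelBaseChange A (A ⧸ m) K K (Ω[B⁄A])).subsingleton
  have h3 : Subsingleton ((A ⧸ m) ⊗[A] Ω[B⁄A]) :=
    Module.FaithfullyFlat.lTensor_reflects_triviality (A ⧸ m) K _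
  have h4 : (⊤ : Submodule A (Ω[B⁄A])) ≤ m • ⊤ := by
    have := (TensorProduct.quotTensorEquivQuotSMul (Ω[B⁄A]) m).symm.subsingleton
    exact le_of_eq (Submodule.Quotient.subsingleton_iff.mp this).symm
  obtain ⟨r, hr1, hr⟩ := Submodule.exists_sub_one_mem_and_smul_eq_zero_of_fg_of_le_smul m ⊤
    Module.Finite.fg_top h4
  have : r ∈ m := hJm (Module.mem_annihilator.mpr fun z => hr z trivial)
  exact hm.ne_top ((Ideal.eq_top_iff_one m).mpr (by simpa using sub_mem this hr1))

/-- Over a Noetherian local ring of dimension at least two, a finite free algebra with geometrically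
reduced fibres off the closed point has geometrically reduced closed fibre. -/
theorem geomRed_maximal [IsNoetherianRing A] [IsLocalRing A] [Module.Free A B]
    (hdim : (2 : WithBot ℕ∞) ≤ ringKrullDim A)
    (h : ∀ P : Ideal A, P.IsPrime → P ≠ IsLocalRing.maximalIdeal A → GeomRed A B P) :
    GeomRed A B (IsLocalRing.maximalIdeal A) := by
  classical
  let b := Module.Free.chooseBasis A B
  let d := (Algebra.traceMatrix A b).det
  have key : ∀ (K : Type u) [Field K] [IsAlgClosed K] [Algebra A K],
      IsReduced (K ⊗[A] B) ↔ d ∉ RingHom.ker (algebraMap A K) := by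
    intro K _ _ _
    rw [← FiniteEt.det_traceMatrix_ne_zero_iff K (K ⊗[A] B) (b.baseChange K), FiniteEt.traceMatrix_baseChange,
      ← RingHom.mapMatrix_apply, ← RingHom.map_det]
    rfl
  have hd : IsUnit d := by
    by_contra hd
    obtain ⟨P, hP⟩ : (Ideal.span {d}).minimalPrimes.Nonempty :=
      Set.nonempty_coe_sort.mp (Ideal.nonempty_minimalPrimes (by rwa [Ne, Ideal.span_singleton_eq_top]))
    have hPp : P.IsPrime := hP.1.1
    have hh := Ideal.height_le_one_of_isPrincipal_of_mem_minimalPrimes _ P hP
    have hPm : P ≠ IsLocalRing.maximalIdeal A := by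
      rintro rfl
      rw [← IsLocalRing.maximalIdeal_height_eq_ringKrullDim] at hdim
      have : (2 : WithBot ℕ∞) ≤ 1 := hdim.trans (WithBot.coe_le_coe.mpr hh)
      exact absurd this (by decide)
    let K := AlgebraicClosure P.ResidueField
    have hker : RingHom.ker (algebraMap A K) = P := by
      rw [IsScalarTower.algebraMap_eq A P.ResidueField K,
        RingHom.ker_comp_of_injective _ (algebraMap P.ResidueField K).injective, Ideal.ker_algebraMap_residueField]
    have := (key K).mp (h P hPp hPm K hker)
    rw [hker] at this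
    exact this (hP.1.2 (Ideal.mem_span_singleton_self d))
  intro K _ _ _ hK
  rw [key K, hK]
  exact fun hmem => hmem hd

theorem geomRed_of_height [IsNoetherianRing A] [Module.Flat A B] (U : Set (PrimeSpectrum A))
    (hU : ∀ P : PrimeSpectrum A, P ∈ U → GeomRed A B P.asIdeal)
    (hdim : ∀ P : PrimeSpectrum A, P ∉ U → (2 : ℕ∞) ≤ P.asIdeal.height)
    (P : PrimeSpectrum A) : GeomRed A B P.asIdeal := by
  suffices H : ∀ (n : ℕ) (P : PrimeSpectrum A), P.asIdeal.height < n → GeomRed A B P.asIdeal by
    obtain ⟨n, hn⟩ := WithTop.ne_top_iff_exists.mp (Ideal.height_ne_top P.isPrime.ne_top)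
    exact H (n + 1) P (by rw [← hn]; exact WithTop.coe_lt_coe.mpr (Nat.lt_succ_self n))
  intro n
  induction n with
  | zero => intro P hP; simp at hP
  | succ n ih =>
    intro P hP
    by_cases hPU : P ∈ U
    · exact hU P hPU
    let A' := Localization.AtPrime P.asIdeal
    let B' := A' ⊗[A] B
    haveI : Module.Free A' B' := Module.free_of_flat_of_isLocalRing
    have hdim' : (2 : WithBot ℕ∞) ≤ ringKrullDim A' := by
      rw [IsLocalization.AtPrime.ringKrullDim_eq_height P.asIdeal A']
      exact WithBot.coe_le_coe.mpr (hdim P hPU)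
    have hlow : ∀ Q : Ideal A', Q.IsPrime → Q ≠ IsLocalRing.maximalIdeal A' → GeomRed A' B' Q := by
      intro Q hQ hQm K _ _ _ hK
      letI : Algebra A K := ((algebraMap A' K).comp (algebraMap A A')).toAlgebra
      haveI : IsScalarTower A A' K := IsScalarTower.of_algebraMap_eq' rfl
      have hlt : Q.comap (algebraMap A A') < P.asIdeal := by
        refine lt_of_le_of_ne ?_ fun he => hQm ?_
        · exact (Ideal.comap_mono (IsLocalRing.le_maximalIdeal hQ.ne_top)).trans
            (IsLocalization.AtPrime.under_maximalIdeal A' P.asIdeal).le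
        · rw [← IsLocalization.map_under P.asIdeal.primeCompl A' Q,
            ← IsLocalization.map_under P.asIdeal.primeCompl A' (IsLocalRing.maximalIdeal A'),
            IsLocalization.AtPrime.under_maximalIdeal A' P.asIdeal]
          exact congrArg _ he
      haveI : (Q.comap (algebraMap A A')).IsPrime := hQ.comap _
      have hQh : (Q.comap (algebraMap A A')).height < n := by
        have h1 := Ideal.height_strict_mono_of_isPrime hlt
        have h2 : (P.asIdeal.height : ℕ∞) ≤ n := ENat.lt_coe_add_one_iff.mp (by exact_mod_cast hP)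
        exact lt_of_lt_of_le h1 h2
      have hred := ih ⟨_, hQ.comap _⟩ hQh K (by
        rw [IsScalarTower.algebraMap_eq A A' K, ← RingHom.comap_ker, hK])
      exact isReduced_of_injective (Algebra.TensorProduct.cancelBaseChange A A' K K B)
        (Algebra.TensorProduct.cancelBaseChange A A' K K B).injective
    have hmax := geomRed_maximal hdim' hlow
    intro K _ _ _ hK
    have hu : ∀ y : P.asIdeal.primeCompl, IsUnit (algebraMap A K y) := fun y =>
      IsUnit.mk0 _ fun h => y.2 (show (y : A) ∈ P.asIdeal from hK.le (RingHom.mem_ker.mpr h))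
    letI : Algebra A' K := (IsLocalization.lift hu).toAlgebra
    haveI : IsScalarTower A A' K := IsScalarTower.of_algebraMap_eq' (IsLocalization.lift_comp hu).symm
    have hred := hmax K (by
      rw [← IsLocalization.map_under P.asIdeal.primeCompl A' (RingHom.ker (algebraMap A' K)),
        ← IsLocalization.map_under P.asIdeal.primeCompl A' (IsLocalRing.maximalIdeal A'),
        IsLocalization.AtPrime.under_maximalIdeal A' P.asIdeal]
      congr 1
      show (RingHom.ker (algebraMap A' K)).comap (algebraMap A A') = _
      rw [RingHom.comap_ker, ← IsScalarTower.algebraMap_eq A A' K, hK])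
    exact isReduced_of_injective (Algebra.TensorProduct.cancelBaseChange A A' K K B).symm
      (Algebra.TensorProduct.cancelBaseChange A A' K K B).symm.injective

/-- Purity for finite flat algebras. -/
theorem etale_of_purity [IsNoetherianRing A] [Module.Flat A B] (U : Set (PrimeSpectrum A))
    (hU : ∀ P : PrimeSpectrum A, P ∈ U → GeomRed A B P.asIdeal)
    (hdim : ∀ P : PrimeSpectrum A, P ∉ U → (2 : ℕ∞) ≤ P.asIdeal.height) :
    Algebra.Etale A B := by
  haveI : Algebra.FinitePresentation A B := Algebra.FinitePresentation.of_finiteType.mp inferInstance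
  haveI := formallyUnramified_of_geomRed (A := A) (B := B) fun m hm =>
    geomRed_of_height U hU hdim ⟨m, hm.isPrime⟩
  exact Algebra.Etale.of_formallyUnramified_of_flat

end Groth.Agent.PurityFlat
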